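import Groth.Agent.BalLib.Descent
import Groth.Prelude.Def_TwC

/-!
# Rigidity of extensions by torsion free constant groups
-/

set_option autoImplicit false
set_option linter.style.haveILetI false
set_option backward.isDefEq.respectTransparency false
universe u
open CategoryTheory CategoryTheory.Limits MonoidalCategory CartesianMonoidalCategory MonObj GrpObj AlgebraicGeometry

attribute [local instance] CategoryTheory.Hom.monoid CategoryTheory.Hom.group

namespace Groth.Agent.ExtRigid

variable {S : Scheme.{u}} {P G E : Over S} [GrpObj P] [GrpObj G] [GrpObj E] {u : G ⟶ E} {v : E ⟶ P}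

theorem exists_ker (hex : NonAbH1.IsExactSeq Scheme.fppfPrecoverage u v) {T : Over S} (e : T ⟶ E)
    (he : e ≫ v = 1) : ∃ g : T ⟶ G, g ≫ u = e := by
  haveI := hex.2.1
  have h1 : (1 : T ⟶ E) ≫ v = e ≫ v := by rw [he, MonObj.one_comp]
  let l := hex.2.2.2.1.lift 1 e h1
  refine ⟨l ≫ snd E G, ?_⟩
  have hm : (E ◁ u) ≫ μ[E] = fst E G * (snd E G ≫ u) := by
    rw [Hom.mul_def]
    congr 1
  have h2 : l ≫ ((E ◁ u) ≫ μ[E]) = e := hex.2.2.2.1.lift_snd 1 e h1
  rw [hm, MonObj.comp_mul, ← Category.assoc, show l ≫ fst E G = 1 from hex.2.2.2.1.lift_fst 1 e h1,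
    _root_.one_mul] at h2
  exact h2

theorem ker_inj (hex : NonAbH1.IsExactSeq Scheme.fppfPrecoverage u v) {T : Over S} {g g' : T ⟶ G}
    (h : g ≫ u = g' ≫ u) : g = g' := by
  have hm : (E ◁ u) ≫ μ[E] = fst E G * (snd E G ≫ u) := by
    rw [Hom.mul_def]
    congr 1
  have : lift (1 : T ⟶ E) g = lift (1 : T ⟶ E) g' := by
    refine hex.2.2.2.1.hom_ext (by rw [lift_fst, lift_fst]) ?_
    rw [hm, MonObj.comp_mul, MonObj.comp_mul, lift_fst, lift_fst, lift_snd_assoc, lift_snd_assoc, h]
  simpa using congrArg (· ≫ snd E G) this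

/-- An automorphism of the extension is the translation by a morphism which commutes with powers. -/
theorem exists_diff [IsCommMonObj E] (hex : NonAbH1.IsExactSeq Scheme.fppfPrecoverage u v) (φ : E ⟶ E) [IsMonHom φ]
    (hφu : u ≫ φ = u) (hφv : φ ≫ v = v) :
    ∃ w : P ⟶ G, (∀ n : ℕ, (𝟙 P ^ n) ≫ w = w ^ n) ∧ (w = 1 → φ = 𝟙 E) := by
  haveI := hex.1
  haveI := hex.2.1
  have hloc := BalLib.hasLocSec_of_isLocallyTrivialFor v hex.2.2.2.2
  obtain ⟨d, hd⟩ := exists_ker hex (φ * (𝟙 E)⁻¹) (by
    rw [MonObj.mul_comp, GrpObj.inv_comp, hφv, Category.id_comp, mul_inv_cancel])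
  have hdu : ∀ {T : Over S} (x : T ⟶ E), (x ≫ d) ≫ u = (x ≫ φ) * x⁻¹ := fun x => by
    rw [Category.assoc, hd, MonObj.comp_mul, GrpObj.comp_inv, Category.comp_id]
  obtain ⟨w, hw, -⟩ := hloc.existsUnique_desc d fun T a b hab => by
    obtain ⟨g, hg⟩ := exists_ker hex (a⁻¹ * b) (by
      rw [MonObj.mul_comp, GrpObj.inv_comp, hab, inv_mul_cancel])
    refine ker_inj hex ?_
    have hb : b = a * (g ≫ u) := by rw [hg, mul_inv_cancel_left]
    rw [hdu, hdu, hb, MonObj.mul_comp, Category.assoc, hφu, _root_.mul_inv_rev]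
    rw [_root_.mul_assoc, mul_inv_cancel_left]
  refine ⟨w, fun n => hloc.hom_ext ?_, fun h => ?_⟩
  · have hv : v ≫ (𝟙 P ^ n) = (𝟙 E ^ n) ≫ v := by
      rw [MonObj.comp_pow, Category.comp_id]
      induction n with
      | zero => rw [pow_zero, pow_zero, MonObj.one_comp]
      | succ n ih => rw [pow_succ, pow_succ, MonObj.mul_comp, ih, Category.id_comp]
    rw [← Category.assoc, hv, Category.assoc, hw, MonObj.comp_pow, hw]
    refine ker_inj hex ?_
    have hp : ∀ {T : Over S} (x : T ⟶ G) (m : ℕ), (x ^ m) ≫ u = (x ≫ u) ^ m := fun x m => by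
      induction m with
      | zero => rw [pow_zero, pow_zero, MonObj.one_comp]
      | succ m ih => rw [pow_succ, pow_succ, MonObj.mul_comp, ih]
    have hq : ∀ {T : Over S} (x : T ⟶ E) (m : ℕ), (x ^ m) ≫ φ = (x ≫ φ) ^ m := fun x m => by
      induction m with
      | zero => rw [pow_zero, pow_zero, MonObj.one_comp]
      | succ m ih => rw [pow_succ, pow_succ, MonObj.mul_comp, ih]
    rw [hdu, hp, hd, hq, Category.id_comp, _root_.mul_pow, inv_pow]
  · rw [h, MonObj.comp_one] at hw
    rw [← hw, MonObj.one_comp] at hd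
    exact mul_inv_eq_one.mp hd.symm

/-- A morphism from a quasi-compact group over a field to a torsion free constant group which commutes with
powers is trivial. -/
theorem eq_one_of_pow {k : Type u} [Field k] {Z : Type u} [CommGroup Z] (hZ : ∀ z : Z, IsOfFinOrder z → z = 1)
    {P G : Over (Spec (CommRingCat.of k))} [GrpObj P] [GrpObj G] [QuasiCompact P.hom]
    (eG : G ≅ TwC.const (Spec (CommRingCat.of k)) Z) (hG : TwC.IsConstGrp Z G eG)
    (w : P ⟶ G) (hw : ∀ n : ℕ, (𝟙 P ^ n) ≫ w = w ^ n) : w = 1 := by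
  let B := Spec (CommRingCat.of k)
  let c : B := IsLocalRing.closedPoint k
  let p : Z → (𝟙_ (Over B) ⟶ G) := fun z => TwC.pt B Z z ≫ eG.inv
  have hp1 : p 1 = 1 := by
    have h : p 1 * p 1 = p (1 * 1) := hG 1 1
    rwa [_root_.mul_one, mul_eq_left] at h
  have hpn : ∀ (z : Z) (n : ℕ), p z ^ n = p (z ^ n) := fun z n => by
    induction n with
    | zero => rw [pow_zero, pow_zero, hp1]
    | succ n ih => rw [pow_succ, pow_succ, ih]; exact hG _ _
  haveI : IsIso eG.hom.left := ((Over.forget _).mapIso eG).isIso_hom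
  -- the index of a point
  let idx : ↥(TwC.const B Z).left → Z := fun x => ((sigmaMk (fun _ : Z => B)).symm x).1
  have hidx : ∀ (z : Z) (b : B), idx (Sigma.ι (fun _ : Z => B) z b) = z := fun z b => by
    have h : (sigmaMk (fun _ : Z => B)).symm (Sigma.ι (fun _ : Z => B) z b) = ⟨z, b⟩ := by
      rw [Homeomorph.symm_apply_eq, sigmaMk_mk]
    exact congrArg Sigma.fst h
  have hlc : IsLocallyConstant idx := by
    have h1 : IsLocallyConstant (Sigma.fst : (Σ _ : Z, ↥B) → Z) := IsLocallyConstant.iff_isOpen_fiber.mpr fun z => by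
      rw [isOpen_sigma_iff]
      intro i
      by_cases h : i = z
      · convert isOpen_univ
        exact Set.eq_univ_of_forall fun _ => h
      · convert isOpen_empty
        exact Set.eq_empty_of_forall_notMem fun _ hx => h hx
    exact h1.comp_continuous (sigmaMk (fun _ : Z => B)).symm.continuous
  let f : P.left → Z := fun x => idx (eG.hom.left (w.left x))
  have hf : IsLocallyConstant f := hlc.comp_continuous (eG.hom.left.continuous.comp w.left.continuous)
  haveI : CompactSpace P.left := QuasiCompact.compactSpace_of_compactSpace P.hom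
  have hfin : (Set.range f).Finite := hf.range_finite
  have hpz : ∀ (z : Z), idx (eG.hom.left ((p z).left c)) = z := fun z => by
    rw [← Scheme.Hom.comp_apply, ← Over.comp_left, Category.assoc, Iso.inv_hom_id, Category.comp_id]
    exact hidx z c
  have hpow : ∀ (x : P.left) (n : ℕ), f x ^ n ∈ Set.range f := fun x n => by
    refine ⟨(𝟙 P ^ n : P ⟶ P).left x, ?_⟩
    have hx : w.left x = (p (f x)).left c := by
      apply (Scheme.homeoOfIso (asIso eG.hom.left)).injective
      show eG.hom.left (w.left x) = eG.hom.left ((p (f x)).left c)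
      rw [← Scheme.Hom.comp_apply (p (f x)).left, ← Over.comp_left, Category.assoc, Iso.inv_hom_id, Category.comp_id]
      obtain ⟨⟨z, b⟩, hzb⟩ := (sigmaMk (fun _ : Z => B)).surjective (eG.hom.left (w.left x))
      rw [sigmaMk_mk] at hzb
      have hz : f x = z := by
        show idx (eG.hom.left (w.left x)) = z
        rw [← hzb, hidx]
      rw [hz, ← hzb, show b = c from Subsingleton.elim (α := PrimeSpectrum k) _ _]
      rfl
    have h1 : w.left ((𝟙 P ^ n : P ⟶ P).left x) = (𝟙 G ^ n : G ⟶ G).left (w.left x) := by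
      rw [← Scheme.Hom.comp_apply, ← Scheme.Hom.comp_apply, ← Over.comp_left, ← Over.comp_left, hw,
        MonObj.comp_pow, Category.comp_id]
    show idx (eG.hom.left (w.left _)) = _
    rw [h1, hx, ← Scheme.Hom.comp_apply (p (f x)).left, ← Over.comp_left, MonObj.comp_pow, Category.comp_id, hpn, hpz]
  have hf1 : ∀ x, f x = 1 := fun x => hZ _ (by
    by_contra h
    have hi : Function.Injective fun n : ℕ => f x ^ n := injective_pow_iff_not_isOfFinOrder.mpr h
    exact Set.infinite_range_of_injective hi (hfin.subset (by rintro _ ⟨n, rfl⟩; exact hpow x n)))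
  have hrange : Set.range (w ≫ eG.hom).left ⊆ Set.range (Sigma.ι (fun _ : Z => B) 1) := by
    rintro _ ⟨x, rfl⟩
    obtain ⟨⟨z, b⟩, hzb⟩ := (sigmaMk (fun _ : Z => B)).surjective (eG.hom.left (w.left x))
    rw [sigmaMk_mk] at hzb
    have hz : z = 1 := by
      rw [← hf1 x]
      show z = idx (eG.hom.left (w.left x))
      rw [← hzb, hidx]
    refine ⟨b, ?_⟩
    rw [Over.comp_left, Scheme.Hom.comp_apply, ← hzb, hz]
  let l := IsOpenImmersion.lift (Sigma.ι (fun _ : Z => B) 1) (w ≫ eG.hom).left hrange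
  have hl : l ≫ Sigma.ι (fun _ : Z => B) 1 = (w ≫ eG.hom).left := IsOpenImmersion.lift_fac _ _ _
  have hlP : l = P.hom := by
    have h := Over.w (w ≫ eG.hom)
    rw [← hl, Category.assoc, show (TwC.const B Z).hom = Sigma.desc (fun _ : Z => 𝟙 B) from rfl] at h
    erw [Sigma.ι_desc] at h
    exact (Category.comp_id l).symm.trans h
  have hwp : w ≫ eG.hom = toUnit P ≫ TwC.pt B Z 1 := by
    ext1
    rw [← hl, hlP]
    rfl
  calc w = (w ≫ eG.hom) ≫ eG.inv := by rw [Category.assoc, Iso.hom_inv_id, Category.comp_id]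
    _ = toUnit P ≫ p 1 := by rw [hwp, Category.assoc]
    _ = 1 := by rw [hp1, MonObj.comp_one]

end Groth.Agent.ExtRigid
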